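import Groth.Prelude.Def_LefMon
import Groth.Agent.L27.LimCoh.HComp
import Groth.Agent.L27.EtSite.Pull

/-!
# Functoriality of pullback on etale cohomology with constant coefficients

The canonical identifications of pullbacks of constant sheaves are compatible with composition; hence
`EtAdic.Hmap` is functorial.
-/

set_option autoImplicit false
set_option linter.style.haveILetI false
set_option backward.isDefEq.respectTransparency false
set_option backward.isDefEq.respectTransparency.types false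

universe u

open CategoryTheory CategoryTheory.Limits AlgebraicGeometry Opposite Groth.L27.LimCoh

namespace Groth.L09.HmapComp

variable {X Y Z : Scheme.{u}}

theorem pullConst_char {A B : Scheme.{u}} (h : A ⟶ B) (M : AddCommGrpCat.{u + 1}) :
    (EtCore.constAdj B).homEquiv _ _ ((EtCoh.pullPushAdj h).homEquiv _ _ ((EtCore.pullConstIso h).hom.app M)) ≫
        (EtCore.pushGsecIso h).hom.app _ = (EtCore.constAdj A).unit.app M := by
  have h1 := Adjunction.homEquiv_leftAdjointUniq_hom_app
    (((EtCore.constAdj B).comp (EtCoh.pullPushAdj h)).ofNatIsoRight (EtCore.pushGsecIso h)) (EtCore.constAdj A) M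
  rw [Adjunction.homEquiv_ofNatIsoRight_apply, Adjunction.comp_homEquiv] at h1
  exact h1

theorem gamma_pullConst (f : Z ⟶ Y) (g : Y ⟶ X) {k : Z ⟶ X} (w : f ≫ g = k) (M : AddCommGrpCat.{u + 1}) :
    gamma f g w ((constantSheaf X.smallEtaleTopology AddCommGrpCat.{u + 1}).obj M) ≫
      (EtCoh.pull f).map ((EtCore.pullConstIso g).hom.app M) ≫ (EtCore.pullConstIso f).hom.app M =
      (EtCore.pullConstIso k).hom.app M := by
  refine ((EtCoh.pullPushAdj k).homEquiv _ _).injective (((EtCore.constAdj X).homEquiv _ _).injective ?_)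
  let ψ₁ := (EtCoh.pullPushAdj g).homEquiv _ _ ((EtCore.pullConstIso g).hom.app M)
  let ψ₂ := (EtCoh.pullPushAdj f).homEquiv _ _ ((EtCore.pullConstIso f).hom.app M)
  have e := homEquiv_gamma_comp f g w _ ψ₁ ψ₂
  simp only [ψ₁, ψ₂, Equiv.symm_apply_apply] at e
  erw [e]
  rw [← cancel_mono ((EtCore.pushGsecIso k).hom.app _), pullConst_char k M, Adjunction.homEquiv_naturality_right,
    Functor.map_comp]
  have eg := pullConst_char g M
  have ef := pullConst_char f M
  rw [Adjunction.homEquiv_unit] at ef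
  refine Eq.trans ?_ ef
  rw [← eg, Category.assoc, Category.assoc, Category.assoc]
  refine Eq.trans (congrArg (CategoryStruct.comp ((EtCore.constAdj X).homEquiv _ _ ψ₁)) ?_) (Category.assoc _ _ _).symm
  have hn := (EtCore.pushGsecIso g).hom.naturality ψ₂
  change (EtCore.gsec X).map ((EtCoh.push g).map ψ₂) ≫ _ = _ ≫ (EtCore.gsec Y).map ψ₂ at hn
  refine Eq.trans (congrArg (CategoryStruct.comp ((EtCore.gsec X).map ((EtCoh.push g).map ψ₂))) ?_)
    ((Category.assoc _ _ _).symm.trans ((congrArg (· ≫ (EtCore.pushGsecIso f).hom.app _) hn).trans (Category.assoc _ _ _)))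
  let F := (constantSheaf Z.smallEtaleTopology AddCommGrpCat.{u + 1}).obj M
  show F.obj.map ((join f g w).app (EtCoh.top X)).op ≫ F.obj.map (EtCore.bcTopIso k).inv.op =
    F.obj.map ((EtCoh.bc f).map (EtCore.bcTopIso g).inv).op ≫ F.obj.map (EtCore.bcTopIso f).inv.op
  rw [← F.obj.map_comp, ← F.obj.map_comp, ← op_comp, ← op_comp]
  exact congrArg (fun l => F.obj.map (Quiver.Hom.op l))
    ((IsTerminal.isTerminalObj (EtCoh.bc f) _ (EtCore.bcTopIsTerminal g)).hom_ext _ _)

/-- `EtAdic.Hmap` is functorial. -/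
theorem Hmap_comp (ℓ : ℕ) (f : Z ⟶ Y) (g : Y ⟶ X) {k : Z ⟶ X} (w : f ≫ g = k)
    (hf : PreservesFiniteLimits (EtCoh.pull f)) (hg : PreservesFiniteLimits (EtCoh.pull g))
    (hk : PreservesFiniteLimits (EtCoh.pull k)) (i ν : ℕ) (x : EtAdic.Hmod X ℓ i ν) :
    EtAdic.Hmap ℓ f hf i ν (EtAdic.Hmap ℓ g hg i ν x) = EtAdic.Hmap ℓ k hk i ν x := by
  show (EtCoh.HF Z i).map _ (EtCore.Hpull f _ i ((EtCoh.HF Y i).map _ (EtCore.Hpull g _ i x))) =
    (EtCoh.HF Z i).map _ (EtCore.Hpull k _ i x)
  rw [Hpull_map, Hpull_comp f g w, ← HF_map_comp, ← HF_map_comp]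
  exact congrArg (fun m => (EtCoh.HF Z i).map m (EtCore.Hpull k _ i x)) (gamma_pullConst f g w _)

end Groth.L09.HmapComp
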